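import Cfsg.Agent.H753.K547.Split
import Cfsg.Agent.H38.K547.Tool
import Cfsg.Agent.H492.K4J4
import Cfsg.Agent.H858.VK
import Cfsg.Agent.S2068
import Cfsg.Agent.SmallSimple.EvenOrder

/-!
# S4547: the row of `J4` (helper753)
-/

set_option autoImplicit false

namespace Cfsg.Agent.H753.K547.J4

open Cfsg Cfsg.Agent.H821.K547 Cfsg.Agent.H753.K547
open Cfsg.Agent.J4.M24Hom Cfsg.Agent.J4.Invol Cfsg.Agent.J4.Pres
open Cfsg.Agent.H858 Cfsg.Agent.H858.VK

universe u

theorem B_eq : FixJ4.B = EJ ⊔ phi.range := by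
  apply le_antisymm
  · intro x hx
    obtain ⟨e, he, k, rfl⟩ := mem_B.1 hx
    exact Subgroup.mul_mem _ ((le_sup_left : EJ ≤ EJ ⊔ phi.range) he)
      ((le_sup_right : phi.range ≤ EJ ⊔ phi.range) ⟨k, rfl⟩)
  · rw [sup_le_iff]
    refine ⟨fun e he => mem_B.2 ⟨e, he, 1, by rw [map_one, mul_one]⟩, ?_⟩
    rintro _ ⟨k, rfl⟩
    exact mem_B.2 ⟨1, EJ.one_mem, k, (one_mul _).symm⟩

theorem EJ_ne_bot : EJ ≠ ⊥ := by
  intro h
  have h1 := card_EJ rho_injective
  rw [h, Subgroup.card_bot] at h1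
  norm_num at h1

theorem d3 : D3 Spor.J4 := by
  have hfin : Finite Spor.J4 := finite_J4
  have : Fact (Nat.Prime 2) := ⟨Nat.prime_two⟩
  have hs : IsSimpleGroup M24 := Cfsg.Agent.S0365.result
  have hcard := FixJ4.card_M24
  have hfinM : Finite M24 := Finite.of_injective phi phi_injective
  let e : M24 ≃* phi.range := MonoidHom.ofInjective phi_injective
  have hc : Nat.card phi.range = Nat.card M24 := (Nat.card_congr e.toEquiv).symm
  have hsr : IsSimpleGroup phi.range := e.isSimpleGroup_congr.1 hs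
  let Q : Sylow 2 phi.range := default
  have hnc : ¬ IsMulCommutative phi.range := by
    intro hcomm
    let _ : CommGroup phi.range := { (inferInstance : Group phi.range) with mul_comm := fun a b => hcomm.is_comm.comm a b }
    have h1 : (Nat.card phi.range).Prime := IsSimpleGroup.prime_card
    rw [hc, hcard] at h1
    norm_num at h1
  have h2 : 2 ∣ Nat.card phi.range := by
    rw [hc, hcard]; norm_num
  refine d3_of_split phi_norm isPGroup_EJ EJ_ne_bot ?_ ?_ Q
    (rk_two_of_not_cyclic Q.2 (Cfsg.Agent.SmallSimple.EvenOrder.not_isCyclic_sylow_two hnc h2 Q))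
  · rw [Subgroup.disjoint_def]
    intro x hx hx2
    exact inf_eq_one x hx hx2
  · rw [← B_eq, FixJ4.index_B]
    norm_num

theorem row {S : Type u} [Group S] (h : Spor.IsoJ4 S) : Row S := by
  have hg := Cfsg.Agent.H492.K4J4.good5_j4 h
  obtain ⟨e⟩ := h
  have hfin : Finite Spor.J4 := finite_J4
  have hfS : Finite S := Finite.of_equiv _ e.symm.toEquiv
  exact Cfsg.Agent.H38.K547.row_of_out e Cfsg.Agent.S2068.result (Or.inl ⟨hg, Cfsg.Agent.H38.K547.d3_congr e d3⟩)

end Cfsg.Agent.H753.K547.J4
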